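import Mathlib

/-!
# Orbit sums over `p`-groups of permutations

For `c ≥ 2` and a `p`-group `P` of permutations of `n` points, the sum of `c` to the number of
cycles over `P` is at most `(c (1 + 2^{-(p-1)}))^n`.
-/

set_option autoImplicit false
set_option linter.style.haveILetI false
set_option linter.unusedSectionVars false

open scoped Classical

namespace CfsgLib.CharsMore.PermClasses

/-- The number of cycles, fixed points included. -/
noncomputable def orb {Ω : Type*} (x : Equiv.Perm Ω) : ℕ :=
  Nat.card (Quotient (Equiv.Perm.SameCycle.setoid x))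

theorem orb_le {Ω : Type*} [Finite Ω] (x : Equiv.Perm Ω) : orb x ≤ Nat.card Ω :=
  Nat.card_le_card_of_surjective (Quotient.mk _) Quotient.mk_surjective

/-- The growth factor. -/
noncomputable def growth (p : ℕ) : ℝ := 1 + (1 / 2 : ℝ) ^ (p - 1)

theorem one_le_growth (p : ℕ) : 1 ≤ growth p := le_add_of_nonneg_right (by positivity)

/-- The step from `c` to the average over a fibre. -/
theorem step_le {p : ℕ} (hp : 2 ≤ p) {c : ℝ} (hc : 2 ≤ c) :
    (c ^ p + ((p : ℝ) - 1) * c) * growth p ≤ (c * growth p) ^ p := by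
  have hp1 : ((p - 1 : ℕ) : ℝ) = (p : ℝ) - 1 := by rw [Nat.cast_sub (by omega)]; norm_num
  have hcpos : (0 : ℝ) < c := by linarith
  have hb : 1 + ((p : ℝ) - 1) * (1 / 2 : ℝ) ^ (p - 1) ≤ growth p ^ (p - 1) := by
    rw [← hp1]
    exact one_add_mul_le_pow (by linarith [show (0 : ℝ) ≤ (1 / 2 : ℝ) ^ (p - 1) by positivity]) _
  have hc2 : 1 ≤ (1 / 2 : ℝ) ^ (p - 1) * c ^ (p - 1) := by
    rw [← mul_pow]; exact one_le_pow₀ (by linarith)
  have hsplit : ∀ x : ℝ, x ^ p = x ^ (p - 1) * x := fun x => by
    rw [← pow_succ, Nat.sub_add_cancel (by omega)]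
  have hpp : (0 : ℝ) ≤ (p : ℝ) - 1 := by rw [← hp1]; positivity
  have key : c ^ (p - 1) + ((p : ℝ) - 1) ≤ c ^ (p - 1) * growth p ^ (p - 1) := by
    refine le_trans ?_ (mul_le_mul_of_nonneg_left hb (by positivity))
    nlinarith [mul_le_mul_of_nonneg_left hc2 hpp]
  calc (c ^ p + ((p : ℝ) - 1) * c) * growth p
      = (c ^ (p - 1) + ((p : ℝ) - 1)) * (c * growth p) := by rw [hsplit c]; ring
    _ ≤ (c ^ (p - 1) * growth p ^ (p - 1)) * (c * growth p) :=
        mul_le_mul_of_nonneg_right key (by linarith [mul_nonneg hcpos.le (zero_le_one.trans (one_le_growth p))])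
    _ = (c * growth p) ^ p := by rw [hsplit (c * growth p), mul_pow]

theorem sum_le_of_injective {α β : Type*} [Fintype α] [Fintype β] (i : α → β)
    (hi : Function.Injective i) (f : β → ℝ) (hf : ∀ b, 0 ≤ f b) : ∑ a, f (i a) ≤ ∑ b, f b := by
  rw [← Finset.sum_image (f := f) (g := i) fun a _ b _ h => hi h]
  exact Finset.sum_le_sum_of_subset_of_nonneg (Finset.subset_univ _) fun b _ _ => hf b

section Fibre

variable {Ω : Type*} [Finite Ω] (p : ℕ) [Fact p.Prime] (z : Equiv.Perm Ω) (hz : z ^ p = 1)
  (hfree : ∀ a, z a ≠ a)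

/-- The orbits of the central element. -/
abbrev Bar := Quotient (Equiv.Perm.SameCycle.setoid z)

/-- Powers indexed by residues. -/
def zp (t : ZMod p) : Equiv.Perm Ω := z ^ t.val

include hz in
theorem zp_natCast (n : ℕ) : zp p z (n : ZMod p) = z ^ n := by
  rw [zp, ZMod.val_natCast, pow_eq_pow_iff_modEq]
  exact (Nat.mod_modEq _ _).of_dvd (orderOf_dvd_of_pow_eq_one hz)

include hz in
theorem zp_add (s t : ZMod p) : zp p z (s + t) = zp p z s * zp p z t := by
  obtain ⟨m, rfl⟩ : ∃ m : ℕ, (m : ZMod p) = s := ⟨s.val, ZMod.natCast_zmod_val s⟩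
  obtain ⟨n, rfl⟩ : ∃ n : ℕ, (n : ZMod p) = t := ⟨t.val, ZMod.natCast_zmod_val t⟩
  rw [← Nat.cast_add, zp_natCast p z hz, zp_natCast p z hz, zp_natCast p z hz, pow_add]

theorem sameCycle_zp (a : Ω) (t : ZMod p) : z.SameCycle a (zp p z t a) :=
  ⟨(t.val : ℤ), by rw [zpow_natCast]; rfl⟩

include hz hfree in
/-- The coordinates: an orbit and a residue. -/
theorem coord_bijective :
    Function.Bijective fun q : Bar z × ZMod p => zp p z q.2 q.1.out := by
  constructor
  · rintro ⟨q, s⟩ ⟨q', t⟩ h
    simp only at h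
    obtain rfl : q = q' := by
      rw [← Quotient.out_eq q, ← Quotient.out_eq q']
      refine Quotient.sound ?_
      show z.SameCycle _ _
      have h2 := sameCycle_zp p z q'.out t
      rw [← h] at h2
      exact (sameCycle_zp p z q.out s).trans h2.symm
    have h' : zp p z (s - t) q.out = q.out := by
      have h1 : zp p z t (zp p z (s - t) q.out) = zp p z t q.out := by
        rw [← Equiv.Perm.mul_apply, ← zp_add p z hz, add_sub_cancel, h]
      exact (zp p z t).injective h1
    by_contra hne
    have hst : s - t ≠ 0 := fun e => hne (by rw [sub_eq_zero.1 e])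
    generalize s - t = u at h' hst
    have hpow : ∀ k : ℕ, zp p z ((k : ZMod p) * u) q.out = q.out := by
      intro k
      induction k with
      | zero =>
        rw [Nat.cast_zero, zero_mul, show zp p z (0 : ZMod p) = 1 by simp [zp]]
        rfl
      | succ k ih => rw [Nat.cast_succ, add_one_mul, zp_add p z hz, Equiv.Perm.mul_apply, h', ih]
    have h1 := hpow (u⁻¹).val
    rw [ZMod.natCast_zmod_val, inv_mul_cancel₀ hst] at h1
    refine hfree q.out ?_
    rwa [zp, ZMod.val_one, pow_one] at h1
  · intro a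
    obtain ⟨i, hi⟩ : z.SameCycle (Quotient.mk (Equiv.Perm.SameCycle.setoid z) a).out a :=
      Quotient.mk_out (s := Equiv.Perm.SameCycle.setoid z) a
    refine ⟨(Quotient.mk _ a, (i : ZMod p)), ?_⟩
    show zp p z (i : ZMod p) _ = a
    rw [zp, ← zpow_natCast]
    rw [show z ^ (((i : ZMod p)).val : ℤ) = z ^ i from ?_, hi]
    rw [zpow_eq_zpow_iff_modEq]
    refine Int.ModEq.of_dvd (Int.natCast_dvd_natCast.2 (orderOf_dvd_of_pow_eq_one hz)) ?_
    exact (ZMod.intCast_eq_intCast_iff _ _ p).1 (by rw [Int.cast_natCast, ZMod.natCast_zmod_val])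

/-- The action on the orbits of a commuting permutation. -/
def bar (x : Equiv.Perm Ω) (hx : Commute x z) : Equiv.Perm (Bar z) :=
  Quotient.congr x fun a b => by
    show z.SameCycle a b ↔ z.SameCycle (x a) (x b)
    constructor <;> rintro ⟨i, hi⟩ <;> refine ⟨i, ?_⟩
    · rw [← Equiv.Perm.mul_apply, ← (hx.zpow_right i).eq, Equiv.Perm.mul_apply, hi]
    · exact x.injective (by rw [← Equiv.Perm.mul_apply, (hx.zpow_right i).eq, Equiv.Perm.mul_apply, hi])

theorem bar_mk (x : Equiv.Perm Ω) (hx : Commute x z) (a : Ω) :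
    bar z x hx (Quotient.mk _ a) = Quotient.mk _ (x a) := rfl

theorem bar_out (x : Equiv.Perm Ω) (hx : Commute x z) (q : Bar z) :
    bar z x hx q = Quotient.mk _ (x q.out) := by
  conv_lhs => rw [← Quotient.out_eq q]
  rfl

/-- The residue picked up at an orbit. -/
noncomputable def shift (x : Equiv.Perm Ω) (q : Bar z) : ZMod p :=
  ((Equiv.ofBijective _ (coord_bijective p z hz hfree)).symm (x q.out)).2

include hz hfree in
theorem apply_coord (x : Equiv.Perm Ω) (hx : Commute x z) (q : Bar z) (t : ZMod p) :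
    x (zp p z t q.out) = zp p z (t + shift p z hz hfree x q) (bar z x hx q).out := by
  let Φ := Equiv.ofBijective _ (coord_bijective p z hz hfree)
  have h := Φ.apply_symm_apply (x q.out)
  generalize hq : Φ.symm (x q.out) = v at h
  change zp p z v.2 v.1.out = x q.out at h
  have hv1 : v.1 = bar z x hx q := by
    rw [bar_out, ← h]
    conv_lhs => rw [← Quotient.out_eq v.1]
    exact Quotient.sound (sameCycle_zp p z v.1.out v.2)
  have hv2 : v.2 = shift p z hz hfree x q := by rw [← hq]; rfl
  rw [zp_add p z hz, Equiv.Perm.mul_apply, ← hv2, ← hv1, h, ← Equiv.Perm.mul_apply,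
    ← Equiv.Perm.mul_apply, zp, (hx.pow_right _).eq]

include hz hfree in
theorem pow_apply_coord (x : Equiv.Perm Ω) (hx : Commute x z) (q : Bar z) (t : ZMod p) (i : ℕ) :
    (x ^ i) (zp p z t q.out) = zp p z
      (t + ∑ j ∈ Finset.range i, shift p z hz hfree x ((bar z x hx ^ j) q))
      ((bar z x hx ^ i) q).out := by
  induction i with
  | zero => simp
  | succ i ih =>
    rw [pow_succ', Equiv.Perm.mul_apply, ih, apply_coord p z hz hfree x hx, Finset.sum_range_succ,
      pow_succ', Equiv.Perm.mul_apply, add_assoc]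

/-- The total residue of a cycle. -/
noncomputable def total [Fintype (Bar z)] (x : Equiv.Perm (Bar z)) (E : Bar z → ZMod p)
    (C : Quotient (Equiv.Perm.SameCycle.setoid x)) : ZMod p :=
  ∑ q ∈ Finset.univ.filter (fun q => Quotient.mk _ q = C), E q

include hz hfree in
/-- The cycles of `x` above a cycle of its image: `p` of them, or one. -/
theorem orb_le_sum [Fintype (Bar z)] (x : Equiv.Perm Ω) (hx : Commute x z) :
    orb x ≤ ∑ C : Quotient (Equiv.Perm.SameCycle.setoid (bar z x hx)),
      if total p z (bar z x hx) (shift p z hz hfree x) C = 0 then p else 1 := by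
  let T := fun C => total p z (bar z x hx) (shift p z hz hfree x) C
  let Y := fun C => {t : ZMod p // T C ≠ 0 → t = 0}
  let h : (Σ C : Quotient (Equiv.Perm.SameCycle.setoid (bar z x hx)), Y C) →
      Quotient (Equiv.Perm.SameCycle.setoid x) :=
    fun v => Quotient.mk _ (zp p z v.2.1 v.1.out.out)
  have hcard : ∀ C, Nat.card (Y C) = if T C = 0 then p else 1 := by
    intro C
    split
    · next h0 => rw [Nat.card_congr (Equiv.subtypeUnivEquiv fun t h => absurd h0 h), Nat.card_zmod]
    · next h0 => exact Nat.card_eq_one_iff_unique.2 ⟨⟨fun a b => Subtype.ext ((a.2 h0).trans (b.2 h0).symm)⟩,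
        ⟨⟨0, fun _ => rfl⟩⟩⟩
  have hsurj : Function.Surjective h := by
    intro w
    obtain ⟨a, rfl⟩ := Quotient.mk_surjective w
    obtain ⟨⟨q, t⟩, rfl⟩ := (coord_bijective p z hz hfree).2 a
    let C : Quotient (Equiv.Perm.SameCycle.setoid (bar z x hx)) := Quotient.mk _ q
    obtain ⟨i, hi⟩ := (Quotient.mk_out (s := Equiv.Perm.SameCycle.setoid (bar z x hx)) q :
      (bar z x hx).SameCycle C.out q).exists_nat_pow_eq
    let r := C.out
    -- pull back to the representative
    obtain ⟨t', ht'⟩ : ∃ t', x.SameCycle (zp p z t' r.out) (zp p z t q.out) := by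
      refine ⟨t - ∑ j ∈ Finset.range i, shift p z hz hfree x ((bar z x hx ^ j) r), (i : ℤ), ?_⟩
      rw [zpow_natCast, pow_apply_coord p z hz hfree x hx, sub_add_cancel, hi]
    by_cases hT : T C = 0
    · exact ⟨⟨C, t', fun h => absurd hT h⟩, Quotient.sound ht'⟩
    -- the return map moves by the total
    refine ⟨⟨C, 0, fun _ => rfl⟩, Quotient.sound ?_⟩
    let L := Function.minimalPeriod (bar z x hx) r
    have hper : r ∈ Function.periodicPts (bar z x hx) := (bar z x hx).injective.mem_periodicPts r
    have himg : Finset.univ.filter (fun q' => Quotient.mk _ q' = C) =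
        (Finset.range L).image fun j => (bar z x hx ^ j) r := by
      ext q'
      simp only [Finset.mem_filter, Finset.mem_univ, true_and, Finset.mem_image, Finset.mem_range]
      constructor
      · intro hq'
        obtain ⟨j, hj⟩ := (Quotient.exact ((Quotient.out_eq C).trans hq'.symm) :
          (bar z x hx).SameCycle r q').exists_nat_pow_eq
        refine ⟨j % L, Nat.mod_lt _ (Function.minimalPeriod_pos_of_mem_periodicPts hper), ?_⟩
        rw [← hj, Equiv.Perm.coe_pow, Equiv.Perm.coe_pow]
        exact Function.iterate_mod_minimalPeriod_eq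
      · rintro ⟨j, -, rfl⟩
        refine Eq.trans ?_ (Quotient.out_eq C)
        exact Quotient.sound ⟨-(j : ℤ), by
          rw [← Equiv.Perm.mul_apply, ← zpow_natCast (bar z x hx) j, ← zpow_add, neg_add_cancel,
            zpow_zero]; rfl⟩
    have htot : ∑ j ∈ Finset.range L, shift p z hz hfree x ((bar z x hx ^ j) r) = T C := by
      show _ = total p z _ _ C
      rw [total, himg, Finset.sum_image]
      intro j hj j' hj' e
      simp only [Finset.coe_range, Set.mem_Iio] at hj hj'
      dsimp only at e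
      rw [Equiv.Perm.coe_pow, Equiv.Perm.coe_pow] at e
      exact Function.iterate_injOn_Iio_minimalPeriod hj hj' e
    have hmove : ∀ s : ZMod p, x.SameCycle (zp p z s r.out) (zp p z (s + T C) r.out) := fun s =>
      ⟨(L : ℤ), by
        rw [zpow_natCast, pow_apply_coord p z hz hfree x hx, htot]
        rw [Equiv.Perm.coe_pow (bar z x hx), Function.iterate_minimalPeriod]⟩
    have hk : ∀ k : ℕ, x.SameCycle (zp p z 0 r.out) (zp p z ((k : ZMod p) * T C) r.out) := by
      intro k
      induction k with
      | zero =>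
        rw [Nat.cast_zero, zero_mul]
      | succ k ih =>
        rw [Nat.cast_succ, add_one_mul]
        exact ih.trans (hmove _)
    have h1 := hk ((t' * (T C)⁻¹).val)
    rw [ZMod.natCast_zmod_val, mul_assoc, inv_mul_cancel₀ hT, mul_one] at h1
    exact h1.trans ht'
  calc orb x ≤ Nat.card (Σ C : Quotient (Equiv.Perm.SameCycle.setoid (bar z x hx)), Y C) :=
        Nat.card_le_card_of_surjective h hsurj
    _ = _ := by
      rw [Nat.card_sigma]
      exact Finset.sum_congr rfl fun C _ => hcard C

end Fibre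

/-- The fibre sum of the weights. -/
theorem sum_total (p : ℕ) [Fact p.Prime] {Ω : Type*} (z : Equiv.Perm Ω) [Fintype (Bar z)]
    (y : Equiv.Perm (Bar z)) (c : ℝ) :
    ∑ E : Bar z → ZMod p, ∏ C, (if total p z y E C = 0 then c ^ p else c) =
      (p : ℝ) ^ Fintype.card (Bar z) * ((c ^ p + ((p : ℝ) - 1) * c) / p) ^ orb y := by
  have hp0 : (p : ℝ) ≠ 0 := Nat.cast_ne_zero.2 (Fact.out : p.Prime).ne_zero
  let g : ZMod p → ℝ := fun t => if t = 0 then c ^ p else c
  have hg : ∑ t, g t = c ^ p + ((p : ℝ) - 1) * c := by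
    simp only [g]
    rw [← Finset.add_sum_erase _ _ (Finset.mem_univ 0), if_pos rfl,
      Finset.sum_congr rfl fun t ht => if_neg (Finset.ne_of_mem_erase ht), Finset.sum_const,
      Finset.card_erase_of_mem (Finset.mem_univ _), Finset.card_univ, ZMod.card, nsmul_eq_mul,
      Nat.cast_sub (Fact.out : p.Prime).one_le, Nat.cast_one]
  let π : Bar z → Quotient (Equiv.Perm.SameCycle.setoid y) := Quotient.mk _
  -- a single cycle
  have hone : ∀ C, ∑ E : {q // π q = C} → ZMod p, g (∑ q, E q) =
      (p : ℝ) ^ Fintype.card {q // π q = C} * ((c ^ p + ((p : ℝ) - 1) * c) / p) := by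
    intro C
    obtain ⟨q0, hq0⟩ := Quotient.mk_surjective C
    let i0 : {q // π q = C} := ⟨q0, hq0⟩
    have hshift : ∀ s : ZMod p, ∑ E : {q // π q = C} → ZMod p, g ((∑ q, E q) + s) =
        ∑ E : {q // π q = C} → ZMod p, g (∑ q, E q) := fun s =>
      Fintype.sum_equiv (Equiv.addRight (Pi.single i0 s)) _ _ fun E => by
        simp only [Equiv.coe_addRight, Pi.add_apply, Finset.sum_add_distrib, Finset.sum_pi_single',
          Finset.mem_univ, if_true]
    have h1 : (p : ℝ) * ∑ E : {q // π q = C} → ZMod p, g (∑ q, E q) =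
        (p : ℝ) ^ Fintype.card {q // π q = C} * (c ^ p + ((p : ℝ) - 1) * c) := by
      calc (p : ℝ) * ∑ E : {q // π q = C} → ZMod p, g (∑ q, E q)
          = ∑ s : ZMod p, ∑ E : {q // π q = C} → ZMod p, g ((∑ q, E q) + s) := by
            rw [Finset.sum_congr rfl fun s _ => hshift s, Finset.sum_const, Finset.card_univ,
              ZMod.card, nsmul_eq_mul]
        _ = ∑ E : {q // π q = C} → ZMod p, ∑ t, g t := by
            rw [Finset.sum_comm]
            exact Finset.sum_congr rfl fun E _ =>
              Fintype.sum_equiv (Equiv.addLeft (∑ q, E q)) _ _ fun s => rfl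
        _ = _ := by
            rw [Finset.sum_const, Finset.card_univ, Fintype.card_fun, ZMod.card, nsmul_eq_mul, hg,
              Nat.cast_pow]
    rw [← mul_div_assoc, eq_div_iff hp0, mul_comm, h1]
  let e : (Bar z → ZMod p) ≃ (∀ C, {q // π q = C} → ZMod p) :=
    ((Equiv.sigmaFiberEquiv π).symm.arrowCongr (Equiv.refl _)).trans
      (Equiv.piCurry fun (_ : Quotient (Equiv.Perm.SameCycle.setoid y)) _ => ZMod p)
  have htot : ∀ E C, total p z y E C = ∑ q, e E C q := by
    intro E C
    rw [total, Finset.sum_subtype (Finset.univ.filter fun q => π q = C) (p := fun q => π q = C)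
      (by simp)]
    rfl
  calc ∑ E : Bar z → ZMod p, ∏ C, (if total p z y E C = 0 then c ^ p else c)
      = ∑ F : (∀ C, {q // π q = C} → ZMod p), ∏ C, g (∑ q, F C q) :=
        Fintype.sum_equiv e _ _ fun E => Finset.prod_congr rfl fun C _ => by rw [← htot E C]
    _ = ∏ C, ∑ E : {q // π q = C} → ZMod p, g (∑ q, E q) :=
        (Fintype.prod_sum fun C (E : {q // π q = C} → ZMod p) => g (∑ q, E q)).symm
    _ = _ := by
        rw [Finset.prod_congr rfl fun C _ => hone C, Finset.prod_mul_distrib,
          Finset.prod_pow_eq_pow_sum, ← Fintype.card_sigma,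
          Fintype.card_congr (Equiv.sigmaFiberEquiv π), Finset.prod_const, Finset.card_univ, orb,
          Nat.card_eq_fintype_card]

/-- The sum over a `p`-group of permutations of `c` to the number of cycles. -/
theorem sum_pow_orb_le (p : ℕ) [Fact p.Prime] : ∀ (n : ℕ) (Ω : Type) [Finite Ω]
    (P : Subgroup (Equiv.Perm Ω)) [Fintype P], Nat.card Ω = n → IsPGroup p P →
    ∀ c : ℝ, 2 ≤ c → ∑ x : P, c ^ orb (x : Equiv.Perm Ω) ≤ (c * growth p) ^ n := by
  intro n
  induction n using Nat.strong_induction_on with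
  | _ n ih =>
    intro Ω _ P _ hn hP c hc
    haveI := Fintype.ofFinite Ω
    have hp : p.Prime := Fact.out
    have hF := one_le_growth p
    by_cases hbot : P = ⊥
    · subst hbot
      rw [Fintype.sum_subsingleton _ (1 : (⊥ : Subgroup (Equiv.Perm Ω)))]
      calc c ^ orb ((1 : (⊥ : Subgroup (Equiv.Perm Ω))) : Equiv.Perm Ω) ≤ c ^ n :=
            pow_le_pow_right₀ (by linarith) (hn ▸ orb_le _)
        _ ≤ _ := pow_le_pow_left₀ (by linarith) (le_mul_of_one_le_right (by linarith) hF) _
    by_cases hs : ∃ s : Set Ω, (∃ a, a ∈ s) ∧ (∃ a, a ∉ s) ∧ ∀ x ∈ P, ∀ a, x a ∈ s ↔ a ∈ s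
    · -- two invariant pieces
      obtain ⟨s, ⟨a, ha⟩, ⟨b, hb⟩, hinv⟩ := hs
      let π₁ : P →* Equiv.Perm {a // a ∈ s} :=
        { toFun := fun x => (x : Equiv.Perm Ω).subtypePerm fun a => hinv _ x.2 a
          map_one' := Equiv.ext fun a => rfl
          map_mul' := fun x y => Equiv.ext fun a => rfl }
      let π₂ : P →* Equiv.Perm {a // a ∉ s} :=
        { toFun := fun x => (x : Equiv.Perm Ω).subtypePerm fun a => not_congr (hinv _ x.2 a)
          map_one' := Equiv.ext fun a => rfl
          map_mul' := fun x y => Equiv.ext fun a => rfl }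
      have horb : ∀ x : P, orb (x : Equiv.Perm Ω) ≤ orb (π₁ x) + orb (π₂ x) := by
        intro x
        rw [orb, orb, orb, ← Nat.card_sum]
        have l₁ : ∀ u v, (π₁ x).SameCycle u v → (x : Equiv.Perm Ω).SameCycle u v := by
          rintro u v ⟨i, hi⟩
          refine ⟨i, ?_⟩
          rw [← hi, show π₁ x = (x : Equiv.Perm Ω).subtypePerm fun a => hinv _ x.2 a from rfl,
            Equiv.Perm.subtypePerm_zpow]
          rfl
        have l₂ : ∀ u v, (π₂ x).SameCycle u v → (x : Equiv.Perm Ω).SameCycle u v := by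
          rintro u v ⟨i, hi⟩
          refine ⟨i, ?_⟩
          rw [← hi, show π₂ x = (x : Equiv.Perm Ω).subtypePerm fun a => not_congr (hinv _ x.2 a) from rfl,
            Equiv.Perm.subtypePerm_zpow]
          rfl
        refine Nat.card_le_card_of_surjective (Sum.elim (Quotient.map Subtype.val l₁)
          (Quotient.map Subtype.val l₂)) fun w => ?_
        obtain ⟨d, rfl⟩ := Quotient.mk_surjective w
        by_cases hd : d ∈ s
        · exact ⟨Sum.inl (Quotient.mk _ ⟨d, hd⟩), rfl⟩
        · exact ⟨Sum.inr (Quotient.mk _ ⟨d, hd⟩), rfl⟩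
      have hn12 : Nat.card {a // a ∈ s} + Nat.card {a // a ∉ s} = n := by
        rw [← hn, ← Nat.card_sum]; exact Nat.card_congr (Equiv.sumCompl _)
      haveI : Nonempty {a // a ∈ s} := ⟨⟨a, ha⟩⟩
      haveI : Nonempty {a // a ∉ s} := ⟨⟨b, hb⟩⟩
      have p1 : 0 < Nat.card {a // a ∈ s} := Nat.card_pos
      have p2 : 0 < Nat.card {a // a ∉ s} := Nat.card_pos
      haveI := Fintype.ofFinite π₁.range
      haveI := Fintype.ofFinite π₂.range
      let i : P → π₁.range × π₂.range := fun x => (⟨π₁ x, x, rfl⟩, ⟨π₂ x, x, rfl⟩)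
      have hi : Function.Injective i := by
        intro x y h
        refine Subtype.ext (Equiv.ext fun d => ?_)
        have h1 : π₁ x = π₁ y := congrArg (fun v => (v.1 : Equiv.Perm {a // a ∈ s})) h
        have h2 : π₂ x = π₂ y := congrArg (fun v => (v.2 : Equiv.Perm {a // a ∉ s})) h
        by_cases hd : d ∈ s
        · exact congrArg Subtype.val (Equiv.ext_iff.1 h1 ⟨d, hd⟩)
        · exact congrArg Subtype.val (Equiv.ext_iff.1 h2 ⟨d, hd⟩)
      calc ∑ x : P, c ^ orb (x : Equiv.Perm Ω)
          ≤ ∑ x : P, c ^ (orb (π₁ x) + orb (π₂ x)) :=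
            Finset.sum_le_sum fun x _ => pow_le_pow_right₀ (by linarith) (horb x)
        _ ≤ ∑ v : π₁.range × π₂.range, c ^ (orb (v.1 : Equiv.Perm {a // a ∈ s}) +
              orb (v.2 : Equiv.Perm {a // a ∉ s})) :=
            sum_le_of_injective i hi (fun v => c ^ (orb (v.1 : Equiv.Perm {a // a ∈ s}) +
              orb (v.2 : Equiv.Perm {a // a ∉ s}))) fun v => by positivity
        _ = (∑ u : π₁.range, c ^ orb (u : Equiv.Perm {a // a ∈ s})) *
              ∑ v : π₂.range, c ^ orb (v : Equiv.Perm {a // a ∉ s}) := by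
            rw [Fintype.sum_prod_type, Finset.sum_mul_sum]
            exact Finset.sum_congr rfl fun u _ => Finset.sum_congr rfl fun v _ => pow_add _ _ _
        _ ≤ (c * growth p) ^ Nat.card {a // a ∈ s} * (c * growth p) ^ Nat.card {a // a ∉ s} :=
            mul_le_mul
              (ih _ (by omega) _ π₁.range rfl (hP.of_surjective π₁.rangeRestrict π₁.rangeRestrict_surjective) c hc)
              (ih _ (by omega) _ π₂.range rfl (hP.of_surjective π₂.rangeRestrict π₂.rangeRestrict_surjective) c hc)
              (Finset.sum_nonneg fun v _ => by positivity)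
              (pow_nonneg (mul_nonneg (by linarith) (zero_le_one.trans hF)) _)
        _ = _ := by rw [← pow_add, hn12]
    -- a central element without fixed points
    haveI : Nontrivial P := (Subgroup.nontrivial_iff_ne_bot P).2 hbot
    haveI : Nontrivial (Subgroup.center P) := hP.center_nontrivial
    obtain ⟨z', hz'⟩ := exists_prime_orderOf_dvd_card' (G := Subgroup.center P) p (by
      obtain ⟨k, hk⟩ := IsPGroup.iff_card.1 (hP.to_subgroup (Subgroup.center P))
      have h1 := Finite.one_lt_card (α := Subgroup.center P)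
      rw [hk] at h1 ⊢
      exact dvd_pow_self p (fun e => by rw [e, pow_zero] at h1; omega))
    obtain ⟨z, hzdef⟩ : ∃ z : Equiv.Perm Ω, z = ((z' : P) : Equiv.Perm Ω) := ⟨_, rfl⟩
    have hzo : orderOf z = p := by rw [hzdef, Subgroup.orderOf_coe, Subgroup.orderOf_coe, hz']
    have hcomm : ∀ x : P, Commute (x : Equiv.Perm Ω) z := fun x => by
      rw [hzdef]; exact congrArg Subtype.val (Subgroup.mem_center_iff.1 z'.2 x)
    have hzP : z ∈ P := hzdef ▸ (z' : P).2
    have hfree : ∀ a, z a ≠ a := by
      intro a ha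
      refine hs ⟨{d | z d = d}, ⟨a, ha⟩, ?_, fun x hx d => ?_⟩
      · by_contra! hall
        have : z = 1 := Equiv.ext fun d => hall d
        rw [this, orderOf_one] at hzo
        exact hp.one_lt.ne hzo
      · show z (x d) = x d ↔ z d = d
        rw [show z (x d) = x (z d) from Equiv.ext_iff.1 (hcomm ⟨x, hx⟩).eq.symm d]
        exact x.injective.eq_iff
    have hz : z ^ p = 1 := hzo ▸ pow_orderOf_eq_one z
    haveI : Fintype (Bar z) := Fintype.ofFinite _
    let π : P →* Equiv.Perm (Bar z) :=
      { toFun := fun x => bar z x (hcomm x)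
        map_one' := Equiv.ext fun q => by rw [bar_out]; exact Quotient.out_eq q
        map_mul' := fun x y => Equiv.ext fun q => by
          rw [Equiv.Perm.mul_apply, bar_out _ _ _ q, bar_out _ _ _ q]
          rfl }
    have hcardΩ : Nat.card (Bar z) * p = n := by
      rw [← hn, ← Nat.card_congr (Equiv.ofBijective _ (coord_bijective p z hz hfree)), Nat.card_prod,
        Nat.card_zmod]
    haveI := Fintype.ofFinite π.range
    have hbar_pos : 0 < Nat.card (Bar z) := by
      haveI : Nonempty Ω := by
        by_contra hne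
        haveI := not_nonempty_iff.1 hne
        have : z = 1 := Equiv.ext fun d => isEmptyElim d
        rw [this, orderOf_one] at hzo
        exact hp.one_lt.ne hzo
      haveI : Nonempty (Bar z) := Nonempty.map (Quotient.mk _) ‹Nonempty Ω›
      exact Nat.card_pos
    let c' : ℝ := (c ^ p + ((p : ℝ) - 1) * c) / p
    have hp2 := hp.two_le
    have hc' : 2 ≤ c' := by
      rw [le_div_iff₀ (Nat.cast_pos.2 hp.pos)]
      have h1 : (2 * p : ℝ) ≤ (2 : ℝ) ^ p := by
        have : 2 * p ≤ 2 ^ p := by
          calc 2 * p ≤ 2 * 2 ^ (p - 1) := Nat.mul_le_mul_left 2 (by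
                have := Nat.lt_two_pow_self (n := p - 1); omega)
            _ = 2 ^ p := by rw [← pow_succ', Nat.sub_add_cancel (by omega)]
        exact_mod_cast this
      have h2 := pow_le_pow_left₀ (by norm_num : (0 : ℝ) ≤ 2) hc p
      have h3 : (0 : ℝ) ≤ ((p : ℝ) - 1) * c :=
        mul_nonneg (by have : (1 : ℝ) ≤ p := (by exact_mod_cast hp.one_le); linarith) (by linarith)
      linarith
    let j : P → π.range × (Bar z → ZMod p) := fun x => (⟨π x, x, rfl⟩, shift p z hz hfree x)
    have hj : Function.Injective j := by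
      intro x y h
      refine Subtype.ext (Equiv.ext fun d => ?_)
      obtain ⟨⟨q, t⟩, rfl⟩ := (coord_bijective p z hz hfree).2 d
      simp only
      have h1 : bar z x (hcomm x) = bar z y (hcomm y) :=
        congrArg (fun v => (v.1 : Equiv.Perm (Bar z))) h
      have h2 : shift p z hz hfree (x : Equiv.Perm Ω) q = shift p z hz hfree (y : Equiv.Perm Ω) q :=
        congrFun (congrArg Prod.snd h) q
      rw [apply_coord p z hz hfree _ (hcomm x), apply_coord p z hz hfree _ (hcomm y), h1, h2]
    let w : π.range × (Bar z → ZMod p) → ℝ := fun v =>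
      ∏ C, (if total p z (v.1 : Equiv.Perm (Bar z)) v.2 C = 0 then c ^ p else c)
    calc ∑ x : P, c ^ orb (x : Equiv.Perm Ω)
        ≤ ∑ x : P, w (j x) := Finset.sum_le_sum fun x _ => by
          refine (pow_le_pow_right₀ (by linarith) (orb_le_sum p z hz hfree _ (hcomm x))).trans
            (le_of_eq ?_)
          rw [← Finset.prod_pow_eq_pow_sum]
          refine Finset.prod_congr rfl fun C _ => ?_
          show c ^ (ite _ _ _) = ite (total p z (bar z x (hcomm x)) _ C = 0) _ _
          split <;> simp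
      _ ≤ ∑ v, w v := sum_le_of_injective j hj w fun v => Finset.prod_nonneg fun C _ => by
          split <;> positivity
      _ = ∑ u : π.range, (p : ℝ) ^ Fintype.card (Bar z) * c' ^ orb (u : Equiv.Perm (Bar z)) := by
          rw [Fintype.sum_prod_type]
          exact Finset.sum_congr rfl fun u _ => sum_total p z (u : Equiv.Perm (Bar z)) c
      _ = (p : ℝ) ^ Nat.card (Bar z) * ∑ u : π.range, c' ^ orb (u : Equiv.Perm (Bar z)) := by
          rw [Finset.mul_sum, Nat.card_eq_fintype_card]
      _ ≤ (p : ℝ) ^ Nat.card (Bar z) * (c' * growth p) ^ Nat.card (Bar z) :=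
          mul_le_mul_of_nonneg_left (ih _ (by nlinarith) _ π.range rfl
            (hP.of_surjective π.rangeRestrict π.rangeRestrict_surjective) c' hc') (by positivity)
      _ = ((c ^ p + ((p : ℝ) - 1) * c) * growth p) ^ Nat.card (Bar z) := by
          rw [← mul_pow, ← mul_assoc, mul_div_cancel₀ _ (Nat.cast_ne_zero.2 hp.ne_zero)]
      _ ≤ ((c * growth p) ^ p) ^ Nat.card (Bar z) := by
          refine pow_le_pow_left₀ (mul_nonneg ?_ (zero_le_one.trans hF)) (step_le hp2 hc) _
          exact add_nonneg (by positivity) (mul_nonneg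
            (by have : (1 : ℝ) ≤ p := (by exact_mod_cast hp.one_le); linarith) (by linarith))
      _ = (c * growth p) ^ n := by rw [← pow_mul, mul_comm p, hcardΩ]

end CfsgLib.CharsMore.PermClasses
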