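import Mathlib
import Cfsg.Agent.Lib.CharsMore.PermClasses.OrbitSum

/-!
# The number of conjugacy classes of a permutation group

A group of permutations of `n` points has at most `3^n` classes: the classes of elements with
prime divisors up to `p` are parametrized by a Sylow `p`-subgroup and the classes of smaller
primes in the centralizers, acting on the cycles.
-/

set_option autoImplicit false
set_option linter.style.haveILetI false
set_option linter.unusedSectionVars false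

open scoped Classical

namespace CfsgLib.CharsMore.PermClasses

/-- All prime divisors of the order are at most `m`. -/
def Smooth (m : ℕ) {G : Type*} [Monoid G] (g : G) : Prop :=
  ∀ q : ℕ, q.Prime → q ∣ orderOf g → q ≤ m

/-- The classes of smooth elements. -/
abbrev SClass (m : ℕ) (G : Type*) [Monoid G] :=
  {C : ConjClasses G // ∃ g, ConjClasses.mk g = C ∧ Smooth m g}

/-- The bound for the classes of smooth elements. -/
def Bound (m : ℕ) (A : ℝ) : Prop :=
  ∀ (Ω : Type) [Finite Ω] (G : Subgroup (Equiv.Perm Ω)),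
    (Nat.card (SClass m G) : ℝ) ≤ A ^ Nat.card Ω

/-- An element agreeing modulo an abelian normal `p`-group with one of order prime to `p` is
conjugate to it when its order is prime to `p`. -/
theorem isConj_mul_of_coprime {G : Type*} [Group G] (K : Subgroup G) [hKn : K.Normal]
    (hK : ∀ a ∈ K, ∀ b ∈ K, Commute a b) {g k : G} (hk : k ∈ K) {N d : ℕ} (hg : g ^ N = 1)
    (hgk : (g * k) ^ N = 1) (hkd : k ^ d = 1) (hcop : N.Coprime d) : IsConj g (g * k) := by
  let kk : ℕ → G := fun i => (g ^ i)⁻¹ * (g * k) ^ i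
  have hmem : ∀ i, kk i ∈ K := by
    intro i
    induction i with
    | zero => simp [kk]
    | succ i ih =>
      have : kk (i + 1) = g⁻¹ * kk i * g⁻¹⁻¹ * k := by
        simp only [kk, pow_succ, inv_inv, mul_inv_rev, mul_assoc]
      rw [this]
      exact mul_mem (hKn.conj_mem _ ih g⁻¹) hk
  let L : ℕ → G := fun i => Nat.rec 1 (fun j acc => acc * kk j) i
  have hL : ∀ i, L i ∈ K := by
    intro i
    induction i with
    | zero => exact one_mem _
    | succ i ih => exact mul_mem ih (hmem i)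
  have key : ∀ i, L i * kk i = g⁻¹ * L i * g * k ^ i := by
    intro i
    induction i with
    | zero => simp [L, kk]
    | succ i ih =>
      have e : kk (i + 1) = g⁻¹ * kk i * g * k := by
        simp only [kk, pow_succ, mul_inv_rev, mul_assoc]
      have hc : Commute (k ^ i) (g⁻¹ * kk i * g) :=
        hK _ (pow_mem hk i) _ (by simpa using hKn.conj_mem _ (hmem i) g⁻¹)
      show L i * kk i * kk (i + 1) = g⁻¹ * (L i * kk i) * g * k ^ (i + 1)
      rw [e, pow_succ]
      nth_rewrite 1 [ih]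
      calc g⁻¹ * L i * g * k ^ i * (g⁻¹ * kk i * g * k)
          = g⁻¹ * L i * g * (k ^ i * (g⁻¹ * kk i * g)) * k := by group
        _ = g⁻¹ * L i * g * ((g⁻¹ * kk i * g) * k ^ i) * k := by rw [hc.eq]
        _ = g⁻¹ * (L i * kk i) * g * (k ^ i * k) := by group
  have hN : L N = g⁻¹ * L N * g * k ^ N := by
    have := key N
    rwa [show kk N = 1 by simp [kk, hg, hgk], mul_one] at this
  obtain ⟨u, hu⟩ : ∃ u, (k ^ N) ^ u = k := by
    have hd : orderOf k ∣ d := orderOf_dvd_of_pow_eq_one hkd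
    exact exists_pow_eq_self_of_coprime (Nat.Coprime.coprime_dvd_right hd hcop)
  refine isConj_iff.2 ⟨(L N ^ u)⁻¹, ?_⟩
  have hc2 : Commute ((g⁻¹ * L N * g)⁻¹) (L N) :=
    (hK _ (by simpa using hKn.conj_mem _ (hL N) g⁻¹) _ (hL N)).inv_left
  have hkN : k ^ N = (g⁻¹ * L N * g)⁻¹ * L N := eq_inv_mul_of_mul_eq hN.symm
  have h1 : (g⁻¹ * L N * g) ^ u = g⁻¹ * L N ^ u * g := by
    simpa using (conj_pow (i := u) (a := g⁻¹) (b := L N))
  calc (L N ^ u)⁻¹ * g * ((L N ^ u)⁻¹)⁻¹ = g * ((g⁻¹ * L N ^ u * g)⁻¹ * L N ^ u) := by group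
    _ = g * k := by rw [← h1, ← inv_pow, ← hc2.mul_pow, ← hkN, hu]

/-- Splitting off the `p`-part. -/
theorem exists_parts {G : Type*} [Group G] [Finite G] (g : G) {p : ℕ} (hp : p.Prime) :
    ∃ x y : G, g = x * y ∧ Commute x y ∧ (∃ a, x ^ p ^ a = 1) ∧
      orderOf y ∣ orderOf g ∧ ¬ p ∣ orderOf y := by
  have hN : orderOf g ≠ 0 := (orderOf_pos g).ne'
  obtain ⟨a, b, hb, hgab⟩ : ∃ a b, ¬ p ∣ b ∧ orderOf g = p ^ a * b :=
    ⟨_, _, Nat.not_dvd_ordCompl hp hN, (Nat.ordProj_mul_ordCompl_eq_self (orderOf g) p).symm⟩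
  obtain ⟨u, hu⟩ : ∃ u, b * u ≡ 1 [MOD p ^ a] := by
    obtain ⟨c, hc⟩ := Int.mod_coprime (Nat.Coprime.pow_right a
      ((hp.coprime_iff_not_dvd.2 hb).symm))
    obtain ⟨u, hu⟩ : ∃ u : ℕ, (u : ℤ) ≡ c [ZMOD (p ^ a : ℕ)] :=
      ⟨(c % (p ^ a : ℕ)).toNat, by
        rw [Int.toNat_of_nonneg (Int.emod_nonneg _ (by exact_mod_cast pow_ne_zero a hp.ne_zero))]
        exact Int.mod_modEq _ _⟩
    refine ⟨u, Int.natCast_modEq_iff.1 ?_⟩
    push_cast at hu hc ⊢
    exact (hu.mul_left _).trans hc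
  have hcm : Commute (g ^ (b * u)) (g * (g ^ (b * u))⁻¹) :=
    (Commute.pow_self g (b * u)).mul_right (Commute.refl _).inv_right
  have hyb : (g * (g ^ (b * u))⁻¹) ^ b = 1 := by
    rw [((Commute.self_pow g (b * u)).inv_right).mul_pow, inv_pow, mul_inv_eq_one, ← pow_mul,
      pow_eq_pow_iff_modEq, hgab, mul_comm (b * u) b, mul_comm (p ^ a) b]
    simpa using (Nat.ModEq.mul_left' b hu).symm
  refine ⟨g ^ (b * u), g * (g ^ (b * u))⁻¹, ?_, hcm, ⟨a, ?_⟩, ?_, fun h => hb ?_⟩
  · rw [← mul_assoc, (Commute.pow_self g (b * u)).eq, mul_inv_cancel_right]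
  · rw [← pow_mul, show b * u * p ^ a = p ^ a * b * u by ring, ← hgab, pow_mul, pow_orderOf_eq_one,
      one_pow]
  · exact (orderOf_dvd_of_pow_eq_one hyb).trans ⟨p ^ a, by rw [hgab, mul_comm]⟩
  · exact h.trans (orderOf_dvd_of_pow_eq_one hyb)

theorem bound_mono {m : ℕ} {A B : ℝ} (h : Bound m A) (h0 : 0 ≤ A) (hAB : A ≤ B) : Bound m B :=
  fun Ω _ G => (h Ω G).trans (pow_le_pow_left₀ h0 hAB _)

theorem bound_of_subset {m m' : ℕ} {A : ℝ} (h : Bound m A)
    (hmm : ∀ q : ℕ, q.Prime → q ≤ m' → q ≤ m) : Bound m' A := by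
  intro Ω _ G
  refine le_trans ?_ (h Ω G)
  exact_mod_cast Nat.card_le_card_of_injective
    (fun C : SClass m' G => (⟨C.1, C.2.imp fun g hg =>
      ⟨hg.1, fun q hq hd => hmm q hq (hg.2 q hq hd)⟩⟩ : SClass m G))
    fun C D e => Subtype.ext (congrArg Subtype.val e : _)

/-- The classes of `2`-elements. -/
theorem bound_two : Bound 2 2 := by
  intro Ω _ G
  haveI := Fact.mk Nat.prime_two
  obtain ⟨P⟩ := (inferInstance : Nonempty (Sylow 2 G))
  have hsm : ∀ x : (P : Subgroup G), Smooth 2 (x : G) := by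
    intro x q hq hd
    obtain ⟨i, hi⟩ := IsPGroup.iff_orderOf.1 P.isPGroup' x
    rw [Subgroup.orderOf_coe, hi] at hd
    exact ((Nat.prime_dvd_prime_iff_eq hq Nat.prime_two).1 (hq.dvd_of_dvd_pow hd)).le
  let h : ↥(P : Subgroup G) → SClass 2 G := fun x => ⟨ConjClasses.mk (x : G), x, rfl, hsm x⟩
  have hsurj : Function.Surjective h := by
    rintro ⟨C, g, rfl, hg⟩
    have hp : IsPGroup 2 (Subgroup.zpowers g) := by
      refine IsPGroup.of_card (n := (orderOf g).factorization 2) ?_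
      rw [Nat.card_zpowers]
      refine Nat.eq_prime_pow_of_unique_prime_dvd (orderOf_pos g).ne' (p := 2) ?_ |>.trans ?_
      · intro q hq hd; exact le_antisymm (hg q hq hd) hq.two_le
      · congr 1
        have : orderOf g = 2 ^ (orderOf g).primeFactorsList.length :=
          Nat.eq_prime_pow_of_unique_prime_dvd (orderOf_pos g).ne'
            fun {q} hq hd => le_antisymm (hg q hq hd) hq.two_le
        conv_rhs => rw [this, Nat.prime_two.factorization_pow, Finsupp.single_eq_same]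
    obtain ⟨Q, hQ⟩ := hp.exists_le_sylow
    obtain ⟨c, hc⟩ := MulAction.exists_smul_eq G Q P
    have hmem : c * g * c⁻¹ ∈ (P : Subgroup G) := by
      rw [← hc, Sylow.coe_subgroup_smul]
      exact ⟨g, hQ (Subgroup.mem_zpowers g), rfl⟩
    refine ⟨⟨_, hmem⟩, Subtype.ext ?_⟩
    exact ConjClasses.mk_eq_mk_iff_isConj.2 (isConj_iff.2 ⟨c⁻¹, by group⟩)
  obtain ⟨i, hi⟩ := IsPGroup.iff_card.1 P.isPGroup'
  have hle : i ≤ Nat.card Ω := by
    have h1 : 2 ^ i ∣ (Nat.card Ω).factorial := by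
      rw [← hi, ← Nat.card_perm]
      exact (Subgroup.card_subgroup_dvd_card _).trans (Subgroup.card_subgroup_dvd_card G)
    have h2 := sub_one_mul_padicValNat_factorial (p := 2) (Nat.card Ω)
    have h3 := (padicValNat_dvd_iff_le (Nat.factorial_ne_zero _)).1 h1
    omega
  calc (Nat.card (SClass 2 G) : ℝ) ≤ Nat.card (P : Subgroup G) :=
        Nat.cast_le.2 (Nat.card_le_card_of_surjective h hsurj)
    _ = (2 : ℝ) ^ i := by rw [hi]; norm_num
    _ ≤ _ := pow_le_pow_right₀ (by norm_num) hle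

theorem commute_val {Ω : Type} {G : Subgroup (Equiv.Perm Ω)} {x : G}
    (c : Subgroup.centralizer ({x} : Set G)) :
    Commute ((c : G) : Equiv.Perm Ω) (x : Equiv.Perm Ω) :=
  congrArg Subtype.val (Subgroup.mem_centralizer_singleton_iff.1 c.2)

/-- The centralizer on the cycles. -/
def cycHom {Ω : Type} [Finite Ω] {G : Subgroup (Equiv.Perm Ω)} (x : G) :
    Subgroup.centralizer ({x} : Set G) →* Equiv.Perm (Bar (x : Equiv.Perm Ω)) where
  toFun c := bar (x : Equiv.Perm Ω) ((c : G) : Equiv.Perm Ω) (commute_val c)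
  map_one' := Equiv.ext fun q => by rw [bar_out]; exact Quotient.out_eq q
  map_mul' c d := Equiv.ext fun q => by
    rw [Equiv.Perm.mul_apply, bar_out _ _ _ q, bar_out _ _ _ q]; rfl

set_option maxHeartbeats 1600000 in
/-- One prime. -/
theorem bound_step {p m : ℕ} (hp : p.Prime) (hm : ∀ q : ℕ, q.Prime → q < p → q ≤ m)
    (hmp : m < p) {A : ℝ} (hA : 2 ≤ A) (h : Bound m A) : Bound p (A * growth p) := by
  intro Ω _ G
  haveI := Fact.mk hp
  haveI := Fintype.ofFinite Ω
  obtain ⟨P⟩ := (inferInstance : Nonempty (Sylow p G))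
  haveI : Fintype (P : Subgroup G) := Fintype.ofFinite _
  let S : ↥(P : Subgroup G) → Type := fun x => SClass m (Subgroup.centralizer ({(x : G)} : Set G))
  have hprime : ∀ (x : (P : Subgroup G)) (q : ℕ), q.Prime → q ∣ orderOf (x : G) → q = p := by
    intro x q hq hd
    obtain ⟨i, hi⟩ := IsPGroup.iff_orderOf.1 P.isPGroup' x
    rw [Subgroup.orderOf_coe, hi] at hd
    exact (Nat.prime_dvd_prime_iff_eq hq hp).1 (hq.dvd_of_dvd_pow hd)
  have hsm : ∀ (x : (P : Subgroup G)) (y : Subgroup.centralizer ({(x : G)} : Set G)),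
      Smooth m y → Smooth p ((x : G) * y) := by
    intro x y hy q hq hd
    have hcm : Commute (x : G) y := (Subgroup.mem_centralizer_singleton_iff.1 y.2).symm
    rcases (Nat.Prime.dvd_mul hq).1 (hd.trans (hcm.orderOf_mul_dvd_lcm.trans (Nat.lcm_dvd_mul _ _)))
      with h1 | h1
    · exact (hprime x q hq h1).le
    · rw [Subgroup.orderOf_coe] at h1
      exact (hy q hq h1).trans hmp.le
  let f : (Σ x : (P : Subgroup G), S x) → SClass p G := fun v =>
    ⟨ConjClasses.mk ((v.1 : G) * v.2.2.choose), _, rfl, hsm v.1 _ v.2.2.choose_spec.2⟩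
  have hsurj : Function.Surjective f := by
    rintro ⟨C, g, rfl, hg⟩
    obtain ⟨x, y, hxy, hcxy, ⟨a, hxa⟩, hyd, hyp⟩ := exists_parts g hp
    have hpx : IsPGroup p (Subgroup.zpowers x) := by
      obtain ⟨b, -, hb⟩ := (Nat.dvd_prime_pow hp).1 (orderOf_dvd_of_pow_eq_one hxa)
      exact IsPGroup.of_card (n := b) (by rw [Nat.card_zpowers, hb])
    obtain ⟨Q, hQ⟩ := hpx.exists_le_sylow
    obtain ⟨c, hc⟩ := MulAction.exists_smul_eq G Q P
    have hmem : c * x * c⁻¹ ∈ (P : Subgroup G) := by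
      rw [← hc, Sylow.coe_subgroup_smul]
      exact ⟨x, hQ (Subgroup.mem_zpowers x), rfl⟩
    have hy' : c * y * c⁻¹ ∈ Subgroup.centralizer ({c * x * c⁻¹} : Set G) :=
      Subgroup.mem_centralizer_singleton_iff.2 (hcxy.symm.map (MulAut.conj c).toMonoidHom).eq
    have hys : Smooth m (⟨_, hy'⟩ : Subgroup.centralizer ({c * x * c⁻¹} : Set G)) := by
      intro q hq hd
      rw [Subgroup.orderOf_mk, ← MulAut.conj_apply, MulEquiv.orderOf_eq] at hd
      have h1 := hg q hq (hd.trans hyd)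
      exact hm q hq (lt_of_le_of_ne h1 fun e => hyp (e ▸ hd))
    refine ⟨⟨⟨_, hmem⟩, ⟨ConjClasses.mk ⟨_, hy'⟩, ⟨_, hy'⟩, rfl, hys⟩⟩, Subtype.ext ?_⟩
    have hex : ∃ y0 : Subgroup.centralizer ({c * x * c⁻¹} : Set G),
        ConjClasses.mk y0 = ConjClasses.mk ⟨_, hy'⟩ ∧ Smooth m y0 := ⟨_, rfl, hys⟩
    obtain ⟨d, hd⟩ := isConj_iff.1 (ConjClasses.mk_eq_mk_iff_isConj.1 hex.choose_spec.1)
    show ConjClasses.mk (c * x * c⁻¹ * (hex.choose : G)) = ConjClasses.mk g
    refine ConjClasses.mk_eq_mk_iff_isConj.2 (isConj_iff.2 ⟨c⁻¹ * d, ?_⟩)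
    have hd' : (d : G) * hex.choose * (d : G)⁻¹ = c * y * c⁻¹ := congrArg Subtype.val hd
    have hdx : (d : G) * (c * x * c⁻¹) = c * x * c⁻¹ * d := Subgroup.mem_centralizer_singleton_iff.1 d.2
    calc c⁻¹ * d * (c * x * c⁻¹ * hex.choose) * (c⁻¹ * d)⁻¹
        = c⁻¹ * ((d : G) * (c * x * c⁻¹) * (d : G)⁻¹) * ((d : G) * hex.choose * (d : G)⁻¹) * c := by
          group
      _ = g := by rw [hdx, hd', hxy]; group
  have hfib : ∀ x : (P : Subgroup G),
      (Nat.card (S x) : ℝ) ≤ A ^ orb ((x : G) : Equiv.Perm Ω) := by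
    intro x
    let φ := cycHom (x : G)
    refine le_trans (Nat.cast_le.2 ?_) (h (Bar ((x : G) : Equiv.Perm Ω)) φ.range)
    have hmap : ∀ C : S x, ∃ u, ConjClasses.mk u = ConjClasses.map φ.rangeRestrict C.1 ∧ Smooth m u := by
      rintro ⟨C, g, rfl, hg⟩
      exact ⟨φ.rangeRestrict g, rfl, fun q hq hd => hg q hq (hd.trans (orderOf_map_dvd _ g))⟩
    refine Nat.card_le_card_of_injective
      (fun C : S x => (⟨_, hmap C⟩ : SClass m φ.range)) ?_
    rintro ⟨C, g, rfl, hg⟩ ⟨D, g', rfl, hg'⟩ e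
    obtain ⟨d, hd⟩ := isConj_iff.1 (ConjClasses.mk_eq_mk_iff_isConj.1 (congrArg Subtype.val e :
      ConjClasses.mk (φ.rangeRestrict g) = ConjClasses.mk (φ.rangeRestrict g')))
    obtain ⟨c, rfl⟩ := φ.rangeRestrict_surjective d
    refine Subtype.ext (ConjClasses.mk_eq_mk_iff_isConj.2 ?_)
    refine (isConj_iff.2 ⟨c, rfl⟩ : IsConj g (c * g * c⁻¹)).trans ?_
    obtain ⟨g1, hg1⟩ : ∃ g1, g1 = c * g * c⁻¹ := ⟨_, rfl⟩
    rw [← hg1]
    have hord : orderOf g1 = orderOf g := by rw [hg1, ← MulAut.conj_apply, MulEquiv.orderOf_eq]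
    have hker : g1⁻¹ * g' ∈ φ.ker := by
      have hd' : φ g1 = φ g' := by
        have h2 := congrArg Subtype.val hd
        simp only [← map_inv, ← map_mul] at h2
        rw [hg1]
        exact h2
      rw [MonoidHom.mem_ker, map_mul, map_inv, hd', inv_mul_cancel]
    -- the kernel is an abelian `p`-group
    obtain ⟨X, hX⟩ : ∃ X, X = ((x : G) : Equiv.Perm Ω) := ⟨_, rfl⟩
    have hxc : ∀ (k : Subgroup.centralizer ({(x : G)} : Set G)),
        Commute ((k : G) : Equiv.Perm Ω) X := fun k => by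
      rw [hX]; exact congrArg Subtype.val (Subgroup.mem_centralizer_singleton_iff.1 k.2)
    have hcycle : ∀ k ∈ φ.ker, ∀ a, ∃ i : ℤ, ∀ b, X.SameCycle a b →
        ((k : G) : Equiv.Perm Ω) b = (X ^ i) b := by
      intro k hk a
      have h1 := Equiv.ext_iff.1 (MonoidHom.mem_ker.1 hk) (Quotient.mk _ a)
      obtain ⟨i, hi⟩ : X.SameCycle (((k : G) : Equiv.Perm Ω) a) a := hX ▸ Quotient.exact h1
      refine ⟨-i, ?_⟩
      rintro b ⟨l, rfl⟩
      rw [← Equiv.Perm.mul_apply, ((hxc k).zpow_right l).eq, Equiv.Perm.mul_apply,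
        ← Equiv.Perm.mul_apply (X ^ (-i)), ← zpow_add, add_comm, zpow_add, Equiv.Perm.mul_apply]
      congr 1
      have h2 := congrArg (X ^ (-i)) hi
      rw [← Equiv.Perm.mul_apply, ← zpow_add, neg_add_cancel, zpow_zero] at h2
      exact h2
    have hcomm : ∀ a ∈ φ.ker, ∀ b ∈ φ.ker, Commute a b := by
      intro k hk l hl
      refine Subtype.ext (Subtype.ext (Equiv.ext fun a => ?_))
      obtain ⟨i, hi⟩ := hcycle k hk a
      obtain ⟨j, hj⟩ := hcycle l hl a
      show ((k : G) : Equiv.Perm Ω) (((l : G) : Equiv.Perm Ω) a) =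
        ((l : G) : Equiv.Perm Ω) (((k : G) : Equiv.Perm Ω) a)
      rw [hj a (Equiv.Perm.SameCycle.refl X a), hi a (Equiv.Perm.SameCycle.refl X a),
        hi _ ⟨j, rfl⟩, hj _ ⟨i, rfl⟩, ← Equiv.Perm.mul_apply, ← Equiv.Perm.mul_apply, ← zpow_add,
        ← zpow_add, add_comm]
    obtain ⟨e', he'⟩ := IsPGroup.iff_orderOf.1 P.isPGroup' x
    have hX1 : X ^ p ^ e' = 1 := by
      rw [← he', hX, ← Subgroup.coe_pow, ← Subgroup.coe_pow, pow_orderOf_eq_one]
      rfl
    have hexp : ∀ k ∈ φ.ker, k ^ p ^ e' = 1 := by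
      intro k hk
      refine Subtype.ext (Subtype.ext (Equiv.ext fun a => ?_))
      obtain ⟨i, hi⟩ := hcycle k hk a
      have hpow : ∀ s : ℕ, (((k : G) : Equiv.Perm Ω) ^ s) a = (X ^ (i * s)) a := by
        intro s
        induction s with
        | zero => simp
        | succ s ih =>
          rw [pow_succ', Equiv.Perm.mul_apply, ih, hi _ ⟨_, rfl⟩, ← Equiv.Perm.mul_apply, ← zpow_add]
          congr 2; push_cast; ring
      show (((k : G) : Equiv.Perm Ω) ^ p ^ e') a = a
      rw [hpow, mul_comm, zpow_mul, zpow_natCast, hX1, one_zpow]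
      rfl
    have key := isConj_mul_of_coprime φ.ker hcomm hker (N := orderOf g1 * orderOf g')
      (d := p ^ e') (g := g1) (by rw [pow_mul, pow_orderOf_eq_one, one_pow])
      (by rw [mul_inv_cancel_left, mul_comm, pow_mul, pow_orderOf_eq_one, one_pow])
      (hexp _ hker) ?_
    · rwa [mul_inv_cancel_left] at key
    · refine (Nat.Coprime.pow_right e' ?_)
      refine (hp.coprime_iff_not_dvd.2 fun hdvd => ?_).symm
      rcases (Nat.Prime.dvd_mul hp).1 hdvd with h1 | h1
      · exact absurd (hg p hp (hord ▸ h1)) (by omega)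
      · exact absurd (hg' p hp h1) (by omega)
  haveI : Fintype ((P : Subgroup G).map G.subtype) := Fintype.ofFinite _
  calc (Nat.card (SClass p G) : ℝ) ≤ (Nat.card (Σ x : (P : Subgroup G), S x) : ℕ) :=
        Nat.cast_le.2 (Nat.card_le_card_of_surjective f hsurj)
    _ = ∑ x : (P : Subgroup G), (Nat.card (S x) : ℝ) := by rw [Nat.card_sigma, Nat.cast_sum]
    _ ≤ ∑ x : (P : Subgroup G), A ^ orb ((x : G) : Equiv.Perm Ω) :=
        Finset.sum_le_sum fun x _ => hfib x
    _ = ∑ x : (P : Subgroup G).map G.subtype, A ^ orb (x : Equiv.Perm Ω) :=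
        Fintype.sum_equiv ((P : Subgroup G).equivMapOfInjective G.subtype G.subtype_injective).toEquiv
          _ _ fun x => rfl
    _ ≤ _ := sum_pow_orb_le p _ Ω _ rfl (P.isPGroup'.map _) A hA

/-- All primes. -/
theorem bound_all : ∀ j : ℕ, Bound (2 * j + 2) (3 - 4 * (1 / 4 : ℝ) ^ (j + 1)) := by
  intro j
  induction j with
  | zero => norm_num; exact bound_two
  | succ j ih =>
    have hq : (0 : ℝ) ≤ (1 / 4 : ℝ) ^ (j + 1) := by positivity
    have hq1 : (1 / 4 : ℝ) ^ (j + 1) ≤ 1 / 4 :=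
      pow_le_of_le_one (by norm_num) (by norm_num) (by omega)
    have hnext : (1 / 4 : ℝ) ^ (j + 1 + 1) = (1 / 4 : ℝ) ^ (j + 1) / 4 := by
      rw [pow_succ]; ring
    have hfour : ∀ q : ℕ, q.Prime → q ≤ 2 * (j + 1) + 2 → q ≤ 2 * j + 3 := by
      intro q hqp hle
      by_contra hlt
      have he : q = 2 * (j + 1) + 2 := by omega
      rcases hqp.eq_two_or_odd with h | h <;> omega
    by_cases hp : (2 * j + 3).Prime
    · have hstep := bound_step hp (fun q hq hlt => by omega) (by omega) (by linarith) ih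
      refine bound_of_subset (bound_mono hstep ?_ ?_) hfour
      · exact mul_nonneg (by linarith) (zero_le_one.trans (one_le_growth _))
      · have hg : growth (2 * j + 3) = 1 + (1 / 4 : ℝ) ^ (j + 1) := by
          rw [growth, show 2 * j + 3 - 1 = 2 * (j + 1) by omega, pow_mul]
          norm_num
        rw [hg, hnext]
        nlinarith
    · refine bound_of_subset (bound_mono ih (by linarith) (by rw [hnext]; linarith)) fun q hq hle => ?_
      have h1 := hfour q hq hle
      rcases eq_or_lt_of_le h1 with e | e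
      · exact absurd (e ▸ hq) hp
      · omega

/-- A group of permutations of `n` points has at most `3^n` classes. -/
theorem card_conjClasses_le {Ω : Type} [Finite Ω] (G : Subgroup (Equiv.Perm Ω)) :
    Nat.card (ConjClasses G) ≤ 3 ^ Nat.card Ω := by
  have h := bound_all (Nat.card Ω) Ω G
  have hall : ∀ C : ConjClasses G, ∃ g, ConjClasses.mk g = C ∧ Smooth (2 * Nat.card Ω + 2) g := by
    intro C
    obtain ⟨g, rfl⟩ := ConjClasses.mk_surjective C
    refine ⟨g, rfl, fun q hq hd => ?_⟩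
    have h1 : orderOf g ∣ (Nat.card Ω).factorial := by
      rw [← Nat.card_perm]
      exact (orderOf_dvd_natCard g).trans (Subgroup.card_subgroup_dvd_card G)
    have := (hq.dvd_factorial).1 (hd.trans h1)
    omega
  rw [Nat.card_congr (Equiv.subtypeUnivEquiv hall)] at h
  have h3 : ((Nat.card (ConjClasses G) : ℕ) : ℝ) ≤ ((3 ^ Nat.card Ω : ℕ) : ℝ) := by
    refine h.trans ?_
    push_cast
    have hq1 : (1 / 4 : ℝ) ^ (Nat.card Ω + 1) ≤ 1 / 4 :=
      pow_le_of_le_one (by norm_num) (by norm_num) (by omega)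
    have hq : (0 : ℝ) ≤ (1 / 4 : ℝ) ^ (Nat.card Ω + 1) := by positivity
    exact pow_le_pow_left₀ (by linarith) (by linarith) _
  exact_mod_cast h3

/-- The bound `5^(d - 1)`. -/
theorem card_conjClasses_le_five (d : ℕ) (hd : 1 ≤ d) (G : Subgroup (Equiv.Perm (Fin d))) :
    Nat.card (ConjClasses G) ≤ 5 ^ (d - 1) := by
  rcases Nat.lt_or_ge d 4 with h4 | h4
  · have h1 : Nat.card (ConjClasses G) ≤ d.factorial := by
      refine (Nat.card_le_card_of_surjective _ ConjClasses.mk_surjective).trans ?_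
      refine (Subgroup.card_le_card_group G).trans ?_
      rw [Nat.card_perm, Nat.card_fin]
    refine h1.trans ?_
    interval_cases d <;> decide
  · refine (card_conjClasses_le G).trans ?_
    rw [Nat.card_fin]
    obtain ⟨e, rfl⟩ := Nat.exists_eq_add_of_le h4
    rw [show 4 + e - 1 = 3 + e by omega, pow_add, pow_add]
    exact Nat.mul_le_mul (by norm_num) (Nat.pow_le_pow_left (by norm_num) e)

end CfsgLib.CharsMore.PermClasses
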